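import Mathlib

/-!
# Groups with abelian 2-subgroups
-/

set_option autoImplicit false

namespace Cfsg.Lib.CpClosed.AbelianTwo

open Subgroup

/-- Any two elements of a common 2-subgroup commute. -/
def AbTwo (G : Type*) [Group G] : Prop :=
  ∀ P : Subgroup G, IsPGroup 2 P → ∀ x ∈ P, ∀ y ∈ P, x * y = y * x

variable {G : Type*} [Group G]

theorem abTwo_of_sylow (h : ∀ S : Sylow 2 G, IsMulCommutative ↥(S : Subgroup G)) : AbTwo G := by
  intro P hP x hx y hy
  obtain ⟨S, hS⟩ := hP.exists_le_sylow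
  haveI := h S
  exact congrArg Subtype.val (mul_comm' (⟨x, hS hx⟩ : (S : Subgroup G)) ⟨y, hS hy⟩)

theorem AbTwo.commute_map {H : Type*} [Group H] (h : AbTwo H) (f : G →* H) {P : Subgroup G}
    (hP : IsPGroup 2 P) {x y : G} (hx : x ∈ P) (hy : y ∈ P) : f x * f y = f y * f x :=
  h (P.map f) (hP.map f) _ (mem_map_of_mem f hx) _ (mem_map_of_mem f hy)

/-- The property pulls back along injective homomorphisms. -/
theorem AbTwo.of_injective {H : Type*} [Group H] (h : AbTwo H) {f : G →* H} (hf : Function.Injective f) :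
    AbTwo G := fun _ hP x hx y hy => hf (by rw [map_mul, map_mul]; exact h.commute_map f hP hx hy)

theorem AbTwo.of_equiv {H : Type*} [Group H] (h : AbTwo H) (e : G ≃* H) : AbTwo G :=
  h.of_injective (f := e.toMonoidHom) e.injective

/-- Two involutions whose product has 2-power order generate a 2-group, hence commute. -/
theorem AbTwo.dihedral (h : AbTwo G) {a t : G} (ha : a * a = 1) (ht : t * t = 1) {k : ℕ}
    (hk : (a * t) ^ 2 ^ k = 1) : a * t = t * a := by
  haveI : Fact (Nat.Prime 2) := ⟨Nat.prime_two⟩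
  have ha' : a⁻¹ = a := inv_eq_of_mul_eq_one_right ha
  have ht' : t⁻¹ = t := inv_eq_of_mul_eq_one_right ht
  have pz : ∀ {g : G} {m : ℕ}, g ^ 2 ^ m = 1 → IsPGroup 2 (zpowers g) := by
    intro g m hg z
    obtain ⟨n, hn⟩ := mem_zpowers_iff.1 z.2
    refine ⟨m, Subtype.ext ?_⟩
    rw [SubmonoidClass.coe_pow, ← hn, OneMemClass.coe_one, ← zpow_natCast, zpow_comm, zpow_natCast, hg, one_zpow]
  have hnorm : zpowers a ≤ normalizer (zpowers (a * t) : Set G) := by
    refine zpowers_le.2 ?_
    have e : a * (a * t) * a⁻¹ = (a * t)⁻¹ := by rw [mul_inv_rev, ha', ht', ← mul_assoc, ha, one_mul]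
    refine mem_normalizer_iff.2 fun g => ⟨fun hg => ?_, fun hg => ?_⟩
    · obtain ⟨n, rfl⟩ := mem_zpowers_iff.1 hg
      rw [← conj_zpow, e, inv_zpow]
      exact inv_mem (zpow_mem (mem_zpowers _) n)
    · obtain ⟨n, hn⟩ := mem_zpowers_iff.1 hg
      have : g = a * (a * g * a⁻¹) * a⁻¹ := by
        rw [ha']; simp only [← mul_assoc, ha, one_mul]; rw [mul_assoc, ha, mul_one]
      rw [this, ← hn, ← conj_zpow, e, inv_zpow]
      exact inv_mem (zpow_mem (mem_zpowers _) n)
  have hP := IsPGroup.to_sup_of_normal_right' (pz (m := 1) (g := a) (by simpa [pow_two] using ha)) (pz hk) hnorm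
  have m1 : a ∈ zpowers a ⊔ zpowers (a * t) := mem_sup_left (mem_zpowers a)
  refine h _ hP a m1 t ?_
  have hm : a * (a * t) ∈ zpowers a ⊔ zpowers (a * t) := mul_mem m1 (mem_sup_right (mem_zpowers _))
  rwa [← mul_assoc, ha, one_mul] at hm

theorem AbTwo.sq_eq_one (h : AbTwo G) {a t : G} (ha : a * a = 1) (ht : t * t = 1) {k : ℕ}
    (hk : (a * t) ^ 2 ^ k = 1) : (a * t) ^ 2 = 1 := by
  have hc := h.dihedral ha ht hk
  calc (a * t) ^ 2 = a * t * (a * t) := pow_two _
    _ = a * t * (t * a) := by rw [← hc]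
    _ = 1 := by rw [mul_assoc, ← mul_assoc t t a, ht, one_mul, ha]

/-- In the property, the cube of a dihedral rotation of order dividing twelve is an involution or trivial. -/
theorem AbTwo.pow_six (h : AbTwo G) {a r : G} (ha : a * a = 1) (hinv : a * r * a = r⁻¹) (hr : r ^ 12 = 1) :
    r ^ 6 = 1 := by
  have ha' : a⁻¹ = a := inv_eq_of_mul_eq_one_right ha
  have h3 : a * r ^ 3 * a = (r ^ 3)⁻¹ := by
    calc a * r ^ 3 * a = a * r ^ 3 * a⁻¹ := by rw [ha']
      _ = (a * r * a⁻¹) ^ 3 := conj_pow.symm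
      _ = (r ^ 3)⁻¹ := by rw [ha', hinv, inv_pow]
  have ht : (a * r ^ 3) * (a * r ^ 3) = 1 := by
    rw [← mul_assoc, h3, inv_mul_cancel]
  have e : a * (a * r ^ 3) = r ^ 3 := by rw [← mul_assoc, ha, one_mul]
  have := h.sq_eq_one (k := 2) ha ht (by rw [e, ← pow_mul]; exact hr)
  rwa [e, ← pow_mul] at this

/-- The basic identity in a path of three involutions. -/
theorem path_sq {x y z : G} (hx : x * x = 1) (hy : y * y = 1) (hz : z * z = 1)
    (hxy : (x * y) ^ 3 = 1) (hyz : (y * z) ^ 3 = 1) (hxz : (x * z) ^ 2 = 1) :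
    (y * x * z * y) * (y * x * z * y) = 1 ∧ (x * (y * x * z * y)) ^ 2 = x * z := by
  have hx' : x⁻¹ = x := inv_eq_of_mul_eq_one_right hx
  have hy' : y⁻¹ = y := inv_eq_of_mul_eq_one_right hy
  have hz' : z⁻¹ = z := inv_eq_of_mul_eq_one_right hz
  have cxz : z * x = x * z := by
    have := eq_inv_of_mul_eq_one_left (by rwa [pow_two] at hxz : x * z * (x * z) = 1)
    rw [this, mul_inv_rev, hx', hz']
  have bxy : x * y * x = y * x * y := by
    have e : x * y * x * (y * x * y) = 1 := by
      rw [← hxy, pow_succ, pow_succ, pow_one]; group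
    rw [eq_inv_of_mul_eq_one_left e, mul_inv_rev, mul_inv_rev, hx', hy', mul_assoc]
  have byz : y * z * y = z * y * z := by
    have e : y * z * y * (z * y * z) = 1 := by
      rw [← hyz, pow_succ, pow_succ, pow_one]; group
    rw [eq_inv_of_mul_eq_one_left e, mul_inv_rev, mul_inv_rev, hy', hz', mul_assoc]
  have ht : (y * x * z * y) * (y * x * z * y) = 1 := by
    have e : (x * z) * (x * z) = 1 := by rwa [pow_two] at hxz
    calc (y * x * z * y) * (y * x * z * y) = y * x * z * (y * y) * (x * z * y) := by simp only [mul_assoc]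
      _ = y * ((x * z) * (x * z)) * y := by rw [hy, mul_one]; simp only [mul_assoc]
      _ = 1 := by rw [e, mul_one, hy]
  have hw : x * (y * x * z * y) = y * x * z * y * z := by
    calc x * (y * x * z * y) = x * y * x * (z * y) := by simp only [mul_assoc]
      _ = y * x * (y * z * y) := by rw [bxy]; simp only [mul_assoc]
      _ = y * x * z * y * z := by rw [byz]; simp only [mul_assoc]
  have hsq : (x * (y * x * z * y)) ^ 2 = x * z := by
    have r1 : z * (y * z) * y = y * z := by
      calc z * (y * z) * y = z * (y * z * y) := by simp only [mul_assoc]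
        _ = z * z * (y * z) := by rw [byz]; simp only [mul_assoc]
        _ = y * z := by rw [hz, one_mul]
    calc (x * (y * x * z * y)) ^ 2 = (y * x * z * y * z) * (y * x * z * y * z) := by rw [hw, pow_two]
      _ = y * x * (z * (y * z) * y) * (x * z * (y * z)) := by simp only [mul_assoc]
      _ = y * x * y * (z * x * z) * (y * z) := by rw [r1]; simp only [mul_assoc]
      _ = y * x * y * x * (y * z) := by rw [cxz, mul_assoc x z z, hz, mul_one]
      _ = y * (x * y * x) * y * z := by simp only [mul_assoc]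
      _ = (y * y) * x * (y * y) * z := by rw [bxy]; simp only [mul_assoc]
      _ = x * z := by rw [hy, one_mul, mul_one]
  exact ⟨ht, hsq⟩

/-- Three involutions in a path generate a quotient of `S₄` whose end nodes coincide. -/
theorem AbTwo.path_eq (h : AbTwo G) {x y z : G} (hx : x * x = 1) (hy : y * y = 1) (hz : z * z = 1)
    (hxy : (x * y) ^ 3 = 1) (hyz : (y * z) ^ 3 = 1) (hxz : (x * z) ^ 2 = 1) : x = z := by
  obtain ⟨ht, hsq⟩ := path_sq hx hy hz hxy hyz hxz
  have := h.sq_eq_one (k := 2) hx ht (by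
    rw [show (2 : ℕ) ^ 2 = 2 * 2 by norm_num, pow_mul, hsq]
    exact hxz)
  rw [hsq] at this
  rw [eq_inv_of_mul_eq_one_left this, inv_eq_of_mul_eq_one_right hz]

/-- Two involutions that commute and whose product has order dividing three are equal. -/
theorem eq_of_two_three {x y : G} (hy : y * y = 1) (h2 : (x * y) ^ 2 = 1) (h3 : (x * y) ^ 3 = 1) :
    x = y := by
  rw [pow_succ, h2, one_mul] at h3
  rw [eq_inv_of_mul_eq_one_left h3, inv_eq_of_mul_eq_one_right hy]

/-- An involution with an odd power equal to one is trivial. -/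
theorem eq_one_of_odd {x : G} (hx : x * x = 1) {n : ℕ} (hn : Odd n) (h : x ^ n = 1) : x = 1 := by
  obtain ⟨k, rfl⟩ := hn
  rwa [pow_succ, pow_mul, pow_two, hx, one_pow, one_mul] at h

end Cfsg.Lib.CpClosed.AbelianTwo
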